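/-
Coordinates on finite free quotient algebras of `A ⊗[R] B`, frames by elements of `B`, and the
universal ring of framed quotients.
-/
import Mathlib

set_option autoImplicit false

universe u

open TensorProduct

namespace Groth.Agent.H27HilbAff

variable {R B : Type u} [CommRing R] [CommRing B] [Algebra R B] {d : ℕ}

section coord

variable {A A' A'' : Type u} [CommRing A] [Algebra R A] [CommRing A'] [Algebra R A'] [CommRing A'']
  [Algebra R A'']

/-- The induced map `A ⊗ B → A'⊗ B`. -/
noncomputable def bc (ψ : A →ₐ[R] A') : (A ⊗[R] B) →+* (A' ⊗[R] B) :=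
  (Algebra.TensorProduct.map ψ (AlgHom.id R B)).toRingHom

@[simp] lemma bc_tmul (ψ : A →ₐ[R] A') (a : A) (x : B) : bc ψ (a ⊗ₜ x) = ψ a ⊗ₜ x := rfl

lemma bc_comp (ψ : A →ₐ[R] A') (χ : A' →ₐ[R] A'') :
    (bc χ).comp (bc (B := B) ψ) = bc (χ.comp ψ) := by
  refine RingHom.ext fun z => ?_
  induction z using TensorProduct.induction_on with
  | zero => simp
  | tmul a x => simp
  | add a b ha hb => simp only [map_add, ha, hb]

lemma bc_smul (ψ : A →ₐ[R] A') (a : A) (z : A ⊗[R] B) : bc ψ (a • z) = ψ a • bc ψ z := by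
  induction z using TensorProduct.induction_on with
  | zero => simp
  | tmul c x => simp [TensorProduct.smul_tmul', map_mul]
  | add x y hx hy => simp only [smul_add, map_add, hx, hy]

/-- The `A`-linear extension of `φ`. -/
noncomputable def tilde (φ : B →ₗ[R] (Fin d → A)) : (A ⊗[R] B) →ₗ[A] (Fin d → A) :=
  φ.liftBaseChange A

@[simp] lemma tilde_tmul (φ : B →ₗ[R] (Fin d → A)) (a : A) (x : B) :
    tilde φ (a ⊗ₜ x) = a • φ x := by simp [tilde]

/-- Change of coordinates. -/
noncomputable def pushCoord (ψ : A →ₐ[R] A') (φ : B →ₗ[R] (Fin d → A)) : B →ₗ[R] (Fin d → A') :=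
  LinearMap.compLeft ψ.toLinearMap (Fin d) ∘ₗ φ

@[simp] lemma pushCoord_apply (ψ : A →ₐ[R] A') (φ : B →ₗ[R] (Fin d → A)) (x : B) (i : Fin d) :
    pushCoord ψ φ x i = ψ (φ x i) := rfl

lemma tilde_bc (ψ : A →ₐ[R] A') (φ : B →ₗ[R] (Fin d → A)) (z : A ⊗[R] B) (i : Fin d) :
    tilde (pushCoord ψ φ) (bc ψ z) i = ψ (tilde φ z i) := by
  induction z using TensorProduct.induction_on with
  | zero => simp
  | tmul a x => simp
  | add x y hx hy => simp only [map_add, Pi.add_apply, hx, hy]

/-- `φ` identifies the quotient by `K` with `A^d`. -/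
structure IsCoord (K : Ideal (A ⊗[R] B)) (φ : B →ₗ[R] (Fin d → A)) : Prop where
  mem_iff : ∀ z, z ∈ K ↔ tilde φ z = 0
  surj : Function.Surjective (tilde φ)

variable {K : Ideal (A ⊗[R] B)} {φ φ₁ φ₂ : B →ₗ[R] (Fin d → A)}

lemma IsCoord.sub_mem (h : IsCoord K φ) {t : Fin d → A ⊗[R] B}
    (ht : ∀ i, tilde φ (t i) = Pi.single i 1) (z : A ⊗[R] B) :
    z - ∑ i, tilde φ z i • t i ∈ K := by
  rw [h.mem_iff, map_sub, map_sum, sub_eq_zero]
  conv_lhs => rw [pi_eq_sum_univ' (tilde φ z)]
  simp only [map_smul, ht]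

lemma IsCoord.exists_section (h : IsCoord K φ) :
    ∃ t : Fin d → A ⊗[R] B, ∀ i, tilde φ (t i) = Pi.single i 1 :=
  ⟨fun i => (h.surj (Pi.single i 1)).choose, fun i => (h.surj (Pi.single i 1)).choose_spec⟩

/-- Base change of coordinates. -/
theorem IsCoord.map (h : IsCoord K φ) (ψ : A →ₐ[R] A') :
    IsCoord (K.map (bc ψ)) (pushCoord ψ φ) := by
  obtain ⟨t, ht⟩ := h.exists_section
  have ht' : ∀ i, tilde (pushCoord ψ φ) (bc ψ (t i)) = Pi.single i 1 := fun i => funext fun j => by
    rw [tilde_bc, ht]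
    rcases eq_or_ne j i with rfl | hji <;> simp [*]
  have hsurj : Function.Surjective (tilde (pushCoord ψ φ)) := fun c =>
    ⟨∑ i, c i • bc ψ (t i), by
      conv_rhs => rw [pi_eq_sum_univ' c]
      simp only [map_sum, map_smul, ht']⟩
  refine ⟨fun z => ⟨fun hz => ?_, fun hz => ?_⟩, hsurj⟩
  · suffices ∀ c, tilde (pushCoord ψ φ) (c * z) = 0 by simpa using this 1
    rw [Ideal.map] at hz
    induction hz using Submodule.span_induction with
    | mem w hw =>
      obtain ⟨k, hk, rfl⟩ := hw
      intro c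
      induction c using TensorProduct.induction_on with
      | zero => simp
      | tmul a x =>
        have e : a ⊗ₜ[R] x * bc ψ k = a • bc ψ ((1 : A) ⊗ₜ[R] x * k) := by
          rw [map_mul, bc_tmul, map_one, ← smul_mul_assoc, TensorProduct.smul_tmul', smul_eq_mul,
            mul_one]
        rw [e, map_smul, show tilde (pushCoord ψ φ) (bc ψ ((1 : A) ⊗ₜ[R] x * k)) = 0 from
          funext fun i => by
            rw [tilde_bc, (h.mem_iff _).mp (K.mul_mem_left _ hk), Pi.zero_apply, map_zero,
              Pi.zero_apply], smul_zero]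
      | add a b ha hb => rw [add_mul, map_add, ha, hb, add_zero]
    | zero => simp
    | add x y _ _ hx hy => intro c; rw [mul_add, map_add, hx c, hy c, add_zero]
    | smul r w _ hw => intro c; rw [smul_eq_mul, ← mul_assoc]; exact hw _
  · have key : ∀ w, w - ∑ i, tilde (pushCoord ψ φ) w i • bc ψ (t i) ∈ K.map (bc ψ) := by
      intro w
      induction w using TensorProduct.induction_on with
      | zero => simp
      | tmul a x =>
        have hk := Ideal.mem_map_of_mem (bc ψ) (h.sub_mem ht ((1 : A) ⊗ₜ[R] x))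
        convert (K.map (bc ψ)).smul_of_tower_mem a hk using 1
        simp only [map_sub, map_sum, bc_tmul, map_one, bc_smul, tilde_tmul, one_smul, smul_sub,
          Finset.smul_sum, TensorProduct.smul_tmul', smul_eq_mul, mul_one, pushCoord_apply,
          Pi.smul_apply, smul_smul, one_mul, map_mul, map_one]
      | add x y hx hy =>
        convert add_mem hx hy using 1
        simp only [map_add, Pi.add_apply, add_smul, Finset.sum_add_distrib]
        abel
    simpa [hz] using key z

/-- The transition matrix between two coordinate systems. -/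
theorem IsCoord.exists_matrix (h₁ : IsCoord K φ₁) (h₂ : IsCoord K φ₂) :
    ∃ M N : Matrix (Fin d) (Fin d) A, M * N = 1 ∧ ∀ z, tilde φ₂ z = M.mulVec (tilde φ₁ z) := by
  obtain ⟨t, ht⟩ := h₁.exists_section
  obtain ⟨s, hs⟩ := h₂.exists_section
  have key : ∀ {φ ψ : B →ₗ[R] (Fin d → A)} (_ : IsCoord K φ) (_ : IsCoord K ψ)
      (t : Fin d → A ⊗[R] B) (_ : ∀ i, tilde φ (t i) = Pi.single i 1) (z : A ⊗[R] B),
      tilde ψ z = (Matrix.of fun i j => tilde ψ (t j) i).mulVec (tilde φ z) := by
    intro φ ψ hφ hψ t ht z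
    have := (hψ.mem_iff _).mp (hφ.sub_mem ht z)
    rw [map_sub, map_sum, sub_eq_zero] at this
    rw [this]
    funext i
    simp [Matrix.mulVec, dotProduct, mul_comm]
  refine ⟨_, Matrix.of fun i j => tilde φ₁ (s j) i, ?_, key h₁ h₂ t ht⟩
  refine Matrix.ext fun i j => ?_
  have := congrFun (key h₁ h₂ t ht (s j)) i
  rw [hs] at this
  rw [Matrix.one_apply, ← Pi.single_apply j (1 : A) i, this]
  rfl

/-- `b` frames the quotient by `K`. -/
def IsFramed (K : Ideal (A ⊗[R] B)) (b : Fin d → B) : Prop :=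
  ∃ φ : B →ₗ[R] (Fin d → A), IsCoord K φ ∧ ∀ j, φ (b j) = Pi.single j 1

variable {b : Fin d → B}

lemma IsFramed.map (h : IsFramed K b) (ψ : A →ₐ[R] A') : IsFramed (K.map (bc ψ)) b := by
  obtain ⟨φ, hφ, hb⟩ := h
  refine ⟨_, hφ.map ψ, fun j => funext fun i => ?_⟩
  rw [pushCoord_apply, hb]
  rcases eq_or_ne i j with rfl | hij <;> simp [*]

/-- The coordinates adapted to a frame are unique. -/
lemma IsCoord.eq_of_frame (h₁ : IsCoord K φ₁) (h₂ : IsCoord K φ₂)
    (hb₁ : ∀ j, φ₁ (b j) = Pi.single j 1) (hb₂ : ∀ j, φ₂ (b j) = Pi.single j 1) : φ₁ = φ₂ := by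
  obtain ⟨M, N, -, hM⟩ := h₁.exists_matrix h₂
  have : M = 1 := by
    refine Matrix.ext fun i j => ?_
    have := congrFun (hM ((1 : A) ⊗ₜ b j)) i
    simp only [tilde_tmul, one_smul, hb₁, hb₂] at this
    rw [Matrix.one_apply, ← Pi.single_apply j (1 : A) i, this, Matrix.mulVec_single_one]
    rfl
  refine LinearMap.ext fun x => ?_
  have h' := hM ((1 : A) ⊗ₜ x)
  simp [this] at h'
  exact h'.symm

/-- The matrix of `b` in given coordinates. -/
def frameMat (φ : B →ₗ[R] (Fin d → A)) (b : Fin d → B) : Matrix (Fin d) (Fin d) A :=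
  Matrix.of fun i j => φ (b j) i

lemma frameMat_pushCoord (ψ : A →ₐ[R] A') (φ : B →ₗ[R] (Fin d → A)) (b : Fin d → B) :
    (frameMat (pushCoord ψ φ) b).det = ψ (frameMat φ b).det := by
  rw [AlgHom.map_det]
  rfl

theorem IsCoord.isFramed_iff (h : IsCoord K φ) :
    IsFramed K b ↔ IsUnit (frameMat φ b).det := by
  constructor
  · rintro ⟨φb, hφb, hb⟩
    obtain ⟨M, N, hMN, hM⟩ := hφb.exists_matrix h
    have : frameMat φ b = M := by
      refine Matrix.ext fun i j => ?_
      have := congrFun (hM ((1 : A) ⊗ₜ b j)) i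
      simp only [tilde_tmul, one_smul, hb] at this
      rw [Matrix.mulVec_single_one] at this
      exact this
    rw [this]
    exact IsUnit.of_mul_eq_one N.det (by rw [← Matrix.det_mul, hMN, Matrix.det_one])
  · intro hdet
    obtain ⟨U, hU⟩ := (Matrix.isUnit_iff_isUnit_det _).mpr hdet
    let L : (Fin d → A) →ₗ[A] (Fin d → A) := Matrix.mulVecLin (U⁻¹ : (Matrix (Fin d) (Fin d) A)ˣ).1
    refine ⟨L.restrictScalars R ∘ₗ φ, ?_, fun j => ?_⟩
    · have ht : ∀ z, tilde (L.restrictScalars R ∘ₗ φ) z = L (tilde φ z) := by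
        intro z
        induction z using TensorProduct.induction_on with
        | zero => simp
        | tmul a x => simp
        | add x y hx hy => simp only [map_add, hx, hy]
      have hL : ∀ v, (U : Matrix (Fin d) (Fin d) A).mulVec (L v) = v := fun v => by
        simp [L, Matrix.mulVec_mulVec]
      refine ⟨fun z => ?_, fun c => ?_⟩
      · rw [h.mem_iff, ht]
        exact ⟨fun hz => by rw [hz, map_zero], fun hz => by rw [← hL (tilde φ z), hz, Matrix.mulVec_zero]⟩
      · obtain ⟨z, hz⟩ := h.surj ((U : Matrix (Fin d) (Fin d) A).mulVec c)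
        refine ⟨z, ?_⟩
        rw [ht, hz]
        simp [L, Matrix.mulVec_mulVec]
    · have : φ (b j) = (U : Matrix (Fin d) (Fin d) A).mulVec (Pi.single j 1) := by
        rw [Matrix.mulVec_single_one, hU]
        rfl
      show (U⁻¹ : (Matrix (Fin d) (Fin d) A)ˣ).1.mulVec (φ (b j)) = _
      rw [this, Matrix.mulVec_mulVec, Units.inv_mul, Matrix.one_mulVec]

/-- The quotient by `K` has coordinates near every prime where its rank is `d`. -/
theorem exists_coord_away (K : Ideal (A ⊗[R] B)) [Module.Finite A ((A ⊗[R] B) ⧸ K)]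
    [Module.Flat A ((A ⊗[R] B) ⧸ K)] [Module.FinitePresentation A ((A ⊗[R] B) ⧸ K)]
    (p : PrimeSpectrum A) (hp : Module.rankAtStalk ((A ⊗[R] B) ⧸ K) p = d) :
    ∃ r ∉ p.asIdeal, ∃ φ : B →ₗ[R] (Fin d → Localization.Away r),
      IsCoord (K.map (bc (B := B) (IsScalarTower.toAlgHom R A (Localization.Away r)))) φ := by
  let Q := (A ⊗[R] B) ⧸ K
  haveI : Module.Free (Localization.AtPrime p.asIdeal) (LocalizedModule p.asIdeal.primeCompl Q) :=
    Module.free_of_flat_of_isLocalRing
  let b₀ : Module.Basis (Fin d) (Localization.AtPrime p.asIdeal)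
      (LocalizedModule p.asIdeal.primeCompl Q) :=
    Module.finBasisOfFinrankEq _ _ hp
  obtain ⟨r, hr, b', -⟩ := Module.FinitePresentation.exists_basis_localizedModule_powers
    p.asIdeal.primeCompl (LocalizedModule.mkLinearMap p.asIdeal.primeCompl Q)
    (Localization.AtPrime p.asIdeal) b₀
  let Ar := Localization.Away r
  let ψ := IsScalarTower.toAlgHom R A Ar
  let mkK : (A ⊗[R] B) →ₗ[A] Q := (Ideal.Quotient.mkₐ A K).toLinearMap
  let g : Q →ₗ[A] (Fin d → Ar) :=
    b'.equivFun.toLinearMap.restrictScalars A ∘ₗ LocalizedModule.mkLinearMap (.powers r) Q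
  let φ : B →ₗ[R] (Fin d → Ar) :=
    (g ∘ₗ mkK).restrictScalars R ∘ₗ (TensorProduct.mk R A B 1)
  have hg : ∀ z, tilde φ (bc ψ z) = g (mkK z) := by
    intro z
    induction z using TensorProduct.induction_on with
    | zero => simp
    | tmul a x =>
      rw [bc_tmul, tilde_tmul, show (a ⊗ₜ[R] x : A ⊗[R] B) = a • ((1 : A) ⊗ₜ[R] x) by
        rw [TensorProduct.smul_tmul', smul_eq_mul, mul_one], map_smul, map_smul,
        ← algebraMap_smul Ar a]
      rfl
    | add x y hx hy => simp only [map_add, hx, hy]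
  have hsmul : ∀ (a : A) (z : A ⊗[R] B), bc ψ (a • z) = algebraMap A Ar a • bc ψ z :=
    fun a z => bc_smul ψ a z
  have hdiv : ∀ w : Ar ⊗[R] B, ∃ (s : Submonoid.powers r) (z : A ⊗[R] B),
      algebraMap A Ar s • w = bc ψ z := by
    intro w
    induction w using TensorProduct.induction_on with
    | zero => exact ⟨1, 0, by simp⟩
    | tmul a x =>
      obtain ⟨⟨c, s⟩, hc⟩ := IsLocalization.surj (Submonoid.powers r) a
      refine ⟨s, c ⊗ₜ x, ?_⟩
      rw [TensorProduct.smul_tmul', smul_eq_mul, mul_comm, hc]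
      rfl
    | add x y hx hy =>
      obtain ⟨s, z, hz⟩ := hx
      obtain ⟨s', z', hz'⟩ := hy
      refine ⟨s * s', (s' : A) • z + (s : A) • z', ?_⟩
      rw [map_add, hsmul, hsmul, ← hz, ← hz', smul_smul, smul_smul, ← map_mul, ← map_mul, smul_add,
        Submonoid.coe_mul, mul_comm (s' : A) s]
  have hunit : ∀ s : Submonoid.powers r, IsUnit (algebraMap A Ar s) :=
    fun s => IsLocalization.map_units Ar s
  refine ⟨r, hr, φ, ⟨fun w => ⟨fun hw => ?_, fun hw => ?_⟩, fun c => ?_⟩⟩
  · suffices ∀ c, tilde φ (c * w) = 0 by simpa using this 1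
    rw [Ideal.map] at hw
    induction hw using Submodule.span_induction with
    | mem w hw =>
      obtain ⟨k, hk, rfl⟩ := hw
      intro c
      obtain ⟨s, z, hz⟩ := hdiv c
      have h0 : algebraMap A Ar s • tilde φ (c * bc ψ k) = 0 := by
        rw [← map_smul, ← smul_mul_assoc, hz, ← map_mul, hg,
          show mkK (z * k) = 0 from Ideal.Quotient.eq_zero_iff_mem.mpr (K.mul_mem_left _ hk), map_zero]
      exact (hunit s).smul_eq_zero.mp h0
    | zero => simp
    | add x y _ _ hx hy => intro c; rw [mul_add, map_add, hx c, hy c, add_zero]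
    | smul r w _ hw => intro c; rw [smul_eq_mul, ← mul_assoc]; exact hw _
  · obtain ⟨s, z, hz⟩ := hdiv w
    have h0 : g (mkK z) = 0 := by rw [← hg, ← hz, map_smul, hw, smul_zero]
    have h1 : LocalizedModule.mkLinearMap (.powers r) Q (mkK z) = 0 :=
      b'.equivFun.injective (h0.trans (map_zero _).symm)
    rw [IsLocalizedModule.eq_zero_iff (Submonoid.powers r)] at h1
    obtain ⟨s', hs'⟩ := h1
    have hm : (s' : A) • z ∈ K := by
      rw [← Ideal.Quotient.eq_zero_iff_mem]
      exact hs'
    have := Ideal.mem_map_of_mem (bc ψ) hm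
    rw [hsmul, ← hz, smul_smul, ← map_mul] at this
    obtain ⟨u, hu⟩ := (hunit s').mul (hunit s)
    rw [← map_mul] at hu
    have h2 := (K.map (bc ψ)).smul_of_tower_mem (u⁻¹ : Arˣ).1 this
    rwa [smul_smul, ← hu, Units.inv_mul, one_smul] at h2
  · obtain ⟨⟨q, s⟩, hq⟩ := IsLocalizedModule.surj (Submonoid.powers r)
      (LocalizedModule.mkLinearMap (.powers r) Q) (b'.equivFun.symm c)
    obtain ⟨z, rfl⟩ := Ideal.Quotient.mk_surjective q
    obtain ⟨u, hu⟩ := hunit s
    refine ⟨(u⁻¹ : Arˣ).1 • bc ψ z, ?_⟩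
    have hgz : g (mkK z) = algebraMap A Ar s • c := by
      show b'.equivFun (LocalizedModule.mkLinearMap (.powers r) Q (Ideal.Quotient.mk K z)) = _
      rw [← hq]
      dsimp only
      rw [Submonoid.smul_def, ← algebraMap_smul Ar (s : A), map_smul, LinearEquiv.apply_symm_apply]
    rw [map_smul, hg, hgz, ← hu, smul_smul, Units.inv_mul, one_smul]

/-- Over a field every quotient with coordinates has a frame. -/
theorem exists_frame {k : Type u} [Field k] [Algebra R k] {K : Ideal (k ⊗[R] B)}
    {φ : B →ₗ[R] (Fin d → k)} (h : IsCoord K φ) : ∃ b : Fin d → B, IsFramed K b := by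
  have hspan : Submodule.span k (Set.range φ) = ⊤ := by
    rw [eq_top_iff]
    rintro c -
    obtain ⟨z, rfl⟩ := h.surj c
    induction z using TensorProduct.induction_on with
    | zero => simp
    | tmul a x =>
      rw [tilde_tmul]
      exact Submodule.smul_mem _ _ (Submodule.subset_span ⟨x, rfl⟩)
    | add x y hx hy => rw [map_add]; exact add_mem hx hy
  obtain ⟨T, hT, hT', hli⟩ := exists_linearIndependent k (Set.range φ)
  let v : Module.Basis T k (Fin d → k) := Module.Basis.mk hli (by
    rw [Subtype.range_coe_subtype, Set.setOf_mem_eq, hT', hspan])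
  haveI : Finite T := Module.Finite.finite_basis v
  haveI := Fintype.ofFinite T
  have hc : Fintype.card T = d := by
    rw [← Module.finrank_eq_card_basis v, Module.finrank_fin_fun]
  let e : Fin d ≃ T := (Fintype.equivFinOfCardEq hc).symm
  choose b hb using fun j => hT (e j).2
  refine ⟨b, h.isFramed_iff.mpr ?_⟩
  rw [← Matrix.isUnit_iff_isUnit_det, ← Matrix.linearIndependent_cols_iff_isUnit]
  have : (frameMat φ b).col = fun j => ((e j : T) : Fin d → k) := funext fun j => funext fun i =>
    congrFun (hb j) i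
  rw [this]
  exact hli.comp e e.injective

end coord

section univ

variable (R) (b : Fin d → B)

/-- Relations of the universal framed quotient. -/
inductive Rel : MvPolynomial (B × Fin d) R → Prop
  | add (x y : B) (i : Fin d) :
      Rel (MvPolynomial.X (x + y, i) - MvPolynomial.X (x, i) - MvPolynomial.X (y, i))
  | smul (r : R) (x : B) (i : Fin d) :
      Rel (MvPolynomial.X (r • x, i) - MvPolynomial.C r * MvPolynomial.X (x, i))
  | frame (j i : Fin d) :
      Rel (MvPolynomial.X (b j, i) - if i = j then 1 else 0)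
  | mul (x y : B) (k : Fin d) :
      Rel (MvPolynomial.X (x * y, k) - ∑ i, ∑ j,
        MvPolynomial.X (x, i) * MvPolynomial.X (y, j) * MvPolynomial.X (b i * b j, k))

/-- The coordinate ring of the chart of `b`. -/
abbrev UnivRing : Type u :=
  MvPolynomial (B × Fin d) R ⧸ Ideal.span {P : MvPolynomial (B × Fin d) R | Rel R b P}

/-- The universal coordinate functions. -/
noncomputable def gen (x : B) (i : Fin d) : UnivRing R b :=
  Ideal.Quotient.mk _ (MvPolynomial.X (x, i))

lemma mk_rel {P : MvPolynomial (B × Fin d) R} (h : Rel R b P) :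
    Ideal.Quotient.mk (Ideal.span {P : MvPolynomial (B × Fin d) R | Rel R b P}) P = 0 :=
  Ideal.Quotient.eq_zero_iff_mem.mpr (Ideal.subset_span h)

/-- The universal coordinates. -/
noncomputable def univCoord : B →ₗ[R] (Fin d → UnivRing R b) where
  toFun x := gen R b x
  map_add' x y := funext fun i => by
    have := mk_rel R b (Rel.add x y i)
    rw [map_sub, map_sub, sub_sub, sub_eq_zero] at this
    exact this
  map_smul' r x := funext fun i => by
    have := mk_rel R b (Rel.smul r x i)
    rw [map_sub, map_mul, sub_eq_zero] at this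
    show gen R b (r • x) i = r • gen R b x i
    exact this.trans (Algebra.smul_def r (gen R b x i)).symm

lemma univCoord_frame (j : Fin d) : univCoord R b (b j) = Pi.single j 1 := funext fun i => by
  have := mk_rel R b (Rel.frame j i)
  rw [map_sub, sub_eq_zero] at this
  rw [Pi.single_apply]
  refine this.trans ?_
  split_ifs <;> simp

variable {R}
variable {A : Type u} [CommRing A] [Algebra R A]

/-- Coordinates with a frame are multiplicative. -/
def IsMult (φ : B →ₗ[R] (Fin d → A)) : Prop :=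
  ∀ x y k, φ (x * y) k = ∑ i, ∑ j, φ x i * φ y j * φ (b i * b j) k

variable {b}

lemma IsCoord.isMult {K : Ideal (A ⊗[R] B)} {φ : B →ₗ[R] (Fin d → A)} (h : IsCoord K φ)
    (hb : ∀ j, φ (b j) = Pi.single j 1) : IsMult b φ := by
  have ht : ∀ i, tilde φ ((1 : A) ⊗ₜ b i) = Pi.single i 1 := fun i => by simp [hb]
  intro x y k
  have hx := h.sub_mem ht ((1 : A) ⊗ₜ x)
  have hy := h.sub_mem ht ((1 : A) ⊗ₜ y)
  rw [← Ideal.Quotient.eq] at hx hy
  have hm := congrArg₂ (· * ·) hx hy
  rw [← map_mul, ← map_mul, Ideal.Quotient.eq, h.mem_iff, map_sub, sub_eq_zero] at hm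
  have := congrFun hm k
  simpa [Finset.sum_mul_sum, TensorProduct.smul_tmul', Finset.sum_apply] using this

/-- The ideal of multiplicative framed coordinates. -/
noncomputable def kerIdeal (φ : B →ₗ[R] (Fin d → A)) (hm : IsMult b φ) : Ideal (A ⊗[R] B) where
  carrier := {z | tilde φ z = 0}
  add_mem' := fun {x y} hx hy => by
    rw [Set.mem_setOf_eq] at hx hy ⊢
    rw [map_add, hx, hy, add_zero]
  zero_mem' := map_zero _
  smul_mem' := fun c z hz => by
    have hmul : ∀ (x : B) (w : A ⊗[R] B), tilde φ ((1 : A) ⊗ₜ x * w) = fun k =>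
        ∑ i, ∑ j, φ x i * tilde φ w j * φ (b i * b j) k := by
      intro x w
      induction w using TensorProduct.induction_on with
      | zero => funext k; simp
      | tmul a y =>
        funext k
        simp only [Algebra.TensorProduct.tmul_mul_tmul, one_mul, tilde_tmul, Pi.smul_apply,
          smul_eq_mul, hm x y k, Finset.mul_sum]
        refine Finset.sum_congr rfl fun i _ => Finset.sum_congr rfl fun j _ => by ring
      | add u v hu hv =>
        funext k
        simp only [mul_add, map_add, Pi.add_apply, hu, hv, add_mul, Finset.sum_add_distrib]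
    rw [Set.mem_setOf_eq] at hz ⊢
    rw [smul_eq_mul]
    induction c using TensorProduct.induction_on with
    | zero => simp
    | tmul a x =>
      rw [show (a ⊗ₜ[R] x : A ⊗[R] B) = a • ((1 : A) ⊗ₜ[R] x) by
          rw [TensorProduct.smul_tmul', smul_eq_mul, mul_one], smul_mul_assoc, map_smul, hmul, hz]
      funext k
      simp
    | add u v hu hv => rw [add_mul, map_add, hu, hv, add_zero]

lemma isCoord_kerIdeal (φ : B →ₗ[R] (Fin d → A)) (hm : IsMult b φ)
    (hb : ∀ j, φ (b j) = Pi.single j 1) : IsCoord (kerIdeal φ hm) φ := by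
  refine ⟨fun z => Iff.rfl, fun c => ⟨∑ i, c i • ((1 : A) ⊗ₜ b i), ?_⟩⟩
  conv_rhs => rw [pi_eq_sum_univ' c]
  simp only [map_sum, map_smul, tilde_tmul, one_smul, hb]

variable (R) (b)

lemma univCoord_isMult : IsMult b (univCoord R b) := fun x y k => by
  have := mk_rel R b (Rel.mul x y k)
  rw [map_sub, sub_eq_zero] at this
  simp only [map_sum, map_mul] at this
  exact this

/-- The universal ideal on a chart. -/
noncomputable def univIdeal : Ideal (UnivRing R b ⊗[R] B) :=
  kerIdeal (univCoord R b) (univCoord_isMult R b)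

lemma univIdeal_isCoord : IsCoord (univIdeal R b) (univCoord R b) :=
  isCoord_kerIdeal _ _ (univCoord_frame R b)

lemma univIdeal_isFramed : IsFramed (univIdeal R b) b :=
  ⟨_, univIdeal_isCoord R b, univCoord_frame R b⟩

variable {R b}

/-- The classifying map of a framed ideal. -/
theorem existsUnique_classify {K : Ideal (A ⊗[R] B)} (h : IsFramed K b) :
    ∃! ψ : UnivRing R b →ₐ[R] A, (univIdeal R b).map (bc ψ) = K := by
  obtain ⟨φ, hφ, hb⟩ := h
  let ev : MvPolynomial (B × Fin d) R →ₐ[R] A := MvPolynomial.aeval fun p => φ p.1 p.2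
  have hev : ∀ P ∈ Ideal.span {P : MvPolynomial (B × Fin d) R | Rel R b P}, ev P = 0 := by
    intro P hP
    refine (Ideal.span_le (I := RingHom.ker ev.toRingHom)).mpr ?_ hP
    rintro Q hQ
    show ev Q = 0
    cases hQ with
    | add x y i => simp [ev]
    | smul r x i =>
      simp only [ev, map_sub, map_mul, MvPolynomial.aeval_X, MvPolynomial.aeval_C]
      rw [map_smul, Pi.smul_apply, Algebra.smul_def, sub_self]
    | frame j i => simp [ev, hb, Pi.single_apply]
    | mul x y k => simp [ev, hφ.isMult hb x y k]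
  let ψ := Ideal.Quotient.liftₐ _ ev hev
  have hψ : pushCoord ψ (univCoord R b) = φ := LinearMap.ext fun x => funext fun i => by
    show ψ (Ideal.Quotient.mk _ (MvPolynomial.X (x, i))) = φ x i
    simp [ψ, ev]
  refine ⟨ψ, ?_, fun χ hχ => ?_⟩
  · have := (univIdeal_isCoord R b).map ψ
    rw [hψ] at this
    ext z
    rw [this.mem_iff, hφ.mem_iff]
  · have h1 := (univIdeal_isCoord R b).map χ
    rw [hχ] at h1
    have h2 : pushCoord χ (univCoord R b) = φ := h1.eq_of_frame hφ (fun j => funext fun i => by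
      rw [pushCoord_apply, univCoord_frame]
      rcases eq_or_ne i j with rfl | hij <;> simp [*]) hb
    refine Ideal.Quotient.algHom_ext _ (MvPolynomial.algHom_ext fun p => ?_)
    have h3 := congrFun (LinearMap.congr_fun (h2.trans hψ.symm) p.1) p.2
    exact h3

end univ

end Groth.Agent.H27HilbAff
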