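/-
The Hilbert functor of points of an affine scheme on affine test schemes: ideals of `A ⊗[R] B`.
-/
import Groth.Agent.H27HilbAff.Coord
import Groth.Agent.H27HilbOps.Basic

set_option autoImplicit false
set_option backward.isDefEq.respectTransparency false
set_option backward.isDefEq.respectTransparency.types false

universe u

open CategoryTheory CategoryTheory.Limits AlgebraicGeometry TensorProduct CommRingCat

namespace Groth.Agent.H27HilbAff

variable {R B : Type u} [CommRing R] [CommRing B] [Algebra R B] {S : Scheme.{u}}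
  (σ : Spec (CommRingCat.of R) ⟶ S)

/-- The structure map of `Spec B`. -/
noncomputable abbrev fB : Spec (CommRingCat.of B) ⟶ S :=
  Spec.map (ofHom (algebraMap R B)) ≫ σ

variable (A : Type u) [CommRing A] [Algebra R A]

/-- An affine test scheme. -/
noncomputable abbrev TA : Over S := Over.mk (Spec.map (ofHom (algebraMap R A)) ≫ σ)

variable {A} {A' : Type u} [CommRing A'] [Algebra R A']

/-- A morphism of affine test schemes. -/
noncomputable def TAmap (ψ : A →ₐ[R] A') : TA σ A' ⟶ TA σ A :=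
  Over.homMk (Spec.map (ofHom ψ.toRingHom)) (by
    show Spec.map (ofHom ψ.toRingHom) ≫ Spec.map (ofHom (algebraMap R A)) ≫ σ = _
    rw [← Spec.map_comp_assoc]
    congr 3
    ext r
    exact ψ.commutes r)

@[simp] lemma TAmap_left (ψ : A →ₐ[R] A') :
    (TAmap σ ψ).left = Spec.map (ofHom ψ.toRingHom) := rfl

lemma exists_TAmap_eq [Mono σ] (a : TA σ A' ⟶ TA σ A) : ∃ ψ : A →ₐ[R] A', TAmap σ ψ = a := by
  have hw : a.left ≫ Spec.map (ofHom (algebraMap R A)) = Spec.map (ofHom (algebraMap R A')) := by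
    rw [← cancel_mono σ, Category.assoc]
    exact Over.w a
  let φ : CommRingCat.of A ⟶ CommRingCat.of A' := Spec.preimage a.left
  have hφ : ofHom (algebraMap R A) ≫ φ = ofHom (algebraMap R A') := Spec.map_injective (by
    rw [Spec.map_comp, Spec.map_preimage, hw])
  let ψ : A →ₐ[R] A' :=
    { φ.hom with commutes' := fun r => congr($(hφ).hom r) }
  refine ⟨ψ, Over.OverMorphism.ext ?_⟩
  exact Spec.map_preimage a.left

omit [Algebra R A] [Algebra R A'] in
lemma exists_algebra_of_hom [IsIso σ] {T : Over S} {C : Type u} [CommRing C]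
    (j : Spec (CommRingCat.of C) ⟶ T.left) :
    ∃ alg : Algebra R C, ∃ a : @TA R _ S σ C _ alg ⟶ T, a.left = j := by
  let φ : CommRingCat.of R ⟶ CommRingCat.of C := Spec.preimage (j ≫ T.hom ≫ inv σ)
  refine ⟨φ.hom.toAlgebra, Over.homMk j ?_, rfl⟩
  show j ≫ T.hom = Spec.map (ofHom (φ.hom)) ≫ σ
  rw [ofHom_hom, Spec.map_preimage]
  simp

variable (A) (B) in
/-- `Spec (A ⊗ B) ⟶ X_A`. -/
noncomputable def incl : Spec (CommRingCat.of (A ⊗[R] B)) ⟶ PicF.XT (fB (B := B) σ) (TA σ A) :=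
  pullback.lift
    (Spec.map (ofHom (Algebra.TensorProduct.includeRight : B →ₐ[R] A ⊗[R] B).toRingHom))
    (Spec.map (ofHom (Algebra.TensorProduct.includeLeftRingHom : A →+* A ⊗[R] B)))
    (by
      show Spec.map _ ≫ Spec.map _ ≫ σ = Spec.map _ ≫ Spec.map _ ≫ σ
      rw [← Spec.map_comp_assoc, ← Spec.map_comp_assoc]
      congr 2
      ext r
      show (1 : A) ⊗ₜ[R] algebraMap R B r = algebraMap R A r ⊗ₜ[R] (1 : B)
      rw [Algebra.algebraMap_eq_smul_one, Algebra.algebraMap_eq_smul_one, TensorProduct.smul_tmul])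

@[simp, reassoc] lemma incl_fst : incl B σ A ≫ pullback.fst _ _ =
    Spec.map (ofHom (Algebra.TensorProduct.includeRight : B →ₐ[R] A ⊗[R] B).toRingHom) :=
  pullback.lift_fst _ _ _

@[simp, reassoc] lemma incl_snd : incl B σ A ≫ pullback.snd _ _ =
    Spec.map (ofHom (Algebra.TensorProduct.includeLeftRingHom : A →+* A ⊗[R] B)) :=
  pullback.lift_snd _ _ _

lemma isIso_mapDesc_of_mono {X Y Z W : Scheme.{u}} (f : X ⟶ Z) (g : Y ⟶ Z) (i : Z ⟶ W) [Mono i] :
    IsIso (pullback.mapDesc f g i) := by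
  refine ⟨pullback.lift (pullback.fst _ _) (pullback.snd _ _) ?_, ?_, ?_⟩
  · rw [← cancel_mono i, Category.assoc, Category.assoc]
    exact pullback.condition
  · apply pullback.hom_ext <;> simp
  · apply pullback.hom_ext <;> simp

instance incl_isIso [Mono σ] : IsIso (incl B σ A) := by
  have e : incl B σ A = (pullbackSpecIso R A B).inv ≫ (pullbackSymmetry _ _).hom ≫
      pullback.mapDesc (Spec.map (ofHom (algebraMap R B))) (Spec.map (ofHom (algebraMap R A))) σ := by
    apply pullback.hom_ext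
    · rw [incl_fst]
      erw [Category.assoc, Category.assoc, pullback.lift_fst, Category.comp_id,
        pullbackSymmetry_hom_comp_fst, pullbackSpecIso_inv_snd]
      rfl
    · rw [incl_snd]
      erw [Category.assoc, Category.assoc, pullback.lift_snd, Category.comp_id,
        pullbackSymmetry_hom_comp_snd, pullbackSpecIso_inv_fst]
  rw [e]
  haveI := isIso_mapDesc_of_mono (Spec.map (ofHom (algebraMap R B)))
    (Spec.map (ofHom (algebraMap R A))) σ
  infer_instance

lemma incl_naturality (ψ : A →ₐ[R] A') :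
    Spec.map (ofHom (bc (B := B) ψ)) ≫ incl B σ A =
      incl B σ A' ≫ PicF.XTmap (fB σ) (TAmap σ ψ) := by
  apply pullback.hom_ext
  · simp only [Category.assoc, incl_fst, PicF.XTmap, pullback.lift_fst, Category.comp_id,
      ← Spec.map_comp]
    congr 1
    ext x
    show bc ψ ((1 : A) ⊗ₜ x) = (1 : A') ⊗ₜ x
    simp
  · simp only [Category.assoc, incl_snd, PicF.XTmap, pullback.lift_snd, TAmap_left,
      incl_snd_assoc, ← Spec.map_comp]
    congr 1

/-- The family defined by an ideal. -/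
noncomputable def famOf (K : Ideal (A ⊗[R] B)) :
    (PicF.XT (fB (B := B) σ) (TA σ A)).IdealSheafData :=
  (Spec.map (ofHom (Ideal.Quotient.mk K)) ≫ incl B σ A).ker

variable [Mono σ]

instance famMap_isClosedImmersion (K : Ideal (A ⊗[R] B)) :
    IsClosedImmersion (Spec.map (ofHom (Ideal.Quotient.mk K)) ≫ incl B σ A) := by
  haveI : IsClosedImmersion (Spec.map (ofHom (Ideal.Quotient.mk K))) :=
    IsClosedImmersion.spec_of_surjective _ Ideal.Quotient.mk_surjective
  infer_instance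

lemma famOf_le_iff (K : Ideal (A ⊗[R] B)) {C : Type u} [CommRing C] (φ : (A ⊗[R] B) →+* C) :
    famOf σ K ≤ (Spec.map (ofHom φ) ≫ incl B σ A).ker ↔ K ≤ RingHom.ker φ := by
  constructor
  · intro h
    let l := IsClosedImmersion.lift (Spec.map (ofHom (Ideal.Quotient.mk K)) ≫ incl B σ A)
      (Spec.map (ofHom φ) ≫ incl B σ A) h
    have hl : l ≫ Spec.map (ofHom (Ideal.Quotient.mk K)) = Spec.map (ofHom φ) := by
      rw [← cancel_mono (incl B σ A), Category.assoc]
      exact IsClosedImmersion.lift_fac _ _ _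
    have : ofHom (Ideal.Quotient.mk K) ≫ Spec.preimage l = ofHom φ := Spec.map_injective (by
      rw [Spec.map_comp, Spec.map_preimage, hl])
    intro z hz
    rw [RingHom.mem_ker, ← show _ = φ z from congr($(this).hom z)]
    show (Spec.preimage l).hom (Ideal.Quotient.mk K z) = 0
    rw [Ideal.Quotient.eq_zero_iff_mem.mpr hz, map_zero]
  · intro h
    have e : ofHom φ = ofHom (Ideal.Quotient.mk K) ≫ ofHom (Ideal.Quotient.lift K φ h) := by
      ext : 1; exact (Ideal.Quotient.lift_comp_mk K φ h).symm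
    rw [e, Spec.map_comp, Category.assoc]
    exact Scheme.Hom.le_ker_comp _ _

lemma famOf_le_famOf_iff (K L : Ideal (A ⊗[R] B)) : famOf σ K ≤ famOf σ L ↔ K ≤ L :=
  (famOf_le_iff σ K (Ideal.Quotient.mk L)).trans (by rw [Ideal.mk_ker])

lemma famOf_injective : Function.Injective (famOf (A := A) (B := B) σ) := fun K L h =>
  le_antisymm ((famOf_le_famOf_iff σ K L).mp h.le) ((famOf_le_famOf_iff σ L K).mp h.ge)

lemma exists_famOf (I : (PicF.XT (fB (B := B) σ) (TA σ A)).IdealSheafData) :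
    ∃ K : Ideal (A ⊗[R] B), famOf σ K = I := by
  have hI : IsClosedImmersion (I.subschemeι ≫ inv (incl B σ A)) := inferInstance
  obtain ⟨K, e, he⟩ := (IsClosedImmersion.Spec_iff (R := CommRingCat.of (A ⊗[R] B))).mp hI
  refine ⟨K, ?_⟩
  have h : I.subschemeι = e.hom ≫ Spec.map (ofHom (Ideal.Quotient.mk K)) ≫ incl B σ A := by
    rw [← Category.assoc, ← he, Category.assoc, IsIso.inv_hom_id, Category.comp_id]
  rw [famOf, ← Scheme.Hom.ker_comp_of_isIso e.hom, ← h, Scheme.IdealSheafData.ker_subschemeι]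

lemma pull_famOf (ψ : A →ₐ[R] A') (K : Ideal (A ⊗[R] B)) :
    HilbD.pull (fB σ) (TAmap σ ψ) (famOf σ K) = famOf σ (K.map (bc ψ)) := by
  obtain ⟨L, hL⟩ := exists_famOf σ (HilbD.pull (fB σ) (TAmap σ ψ) (famOf σ K))
  rw [← hL]
  have key : ∀ L' : Ideal (A' ⊗[R] B), L ≤ L' ↔ K.map (bc ψ) ≤ L' := by
    intro L'
    rw [← famOf_le_famOf_iff σ L L', hL, H27HilbOne.pull_eq_comap,
      ← Scheme.IdealSheafData.le_map_iff_comap_le]
    have e : (famOf σ L').map (PicF.XTmap (fB σ) (TAmap σ ψ)) =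
        (Spec.map (ofHom ((Ideal.Quotient.mk L').comp (bc ψ))) ≫ incl B σ A).ker := by
      have i : Spec.map (ofHom ((Ideal.Quotient.mk L').comp (bc ψ))) ≫ incl B σ A =
          (Spec.map (ofHom (Ideal.Quotient.mk L')) ≫ incl B σ A') ≫
            PicF.XTmap (fB σ) (TAmap σ ψ) := by
        rw [Category.assoc, ← incl_naturality, ← Spec.map_comp_assoc]
        rfl
      rw [i]
      let k := Spec.map (ofHom (Ideal.Quotient.mk L')) ≫ incl B σ A'
      show (k.imageι ≫ _).ker = (k ≫ _).ker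
      conv_rhs => rw [← k.toImage_imageι, Category.assoc, Scheme.Hom.ker_comp_of_isIso]
    rw [e, famOf_le_iff, ← RingHom.comap_ker, Ideal.mk_ker, ← Ideal.map_le_iff_le_comap]
  rw [le_antisymm ((key _).mpr le_rfl) ((key _).mp le_rfl)]

lemma famOf_proj_iff (d : ℕ) (K : Ideal (A ⊗[R] B)) :
    Mor2.IsFinLocFreeOfDeg d ((famOf σ K).subschemeι ≫ PicF.XTproj (fB σ) (TA σ A)) ↔
      Module.Finite A ((A ⊗[R] B) ⧸ K) ∧ Module.Flat A ((A ⊗[R] B) ⧸ K) ∧
        Algebra.FinitePresentation A ((A ⊗[R] B) ⧸ K) ∧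
        ∀ p, Module.rankAtStalk (R := A) ((A ⊗[R] B) ⧸ K) p = d := by
  let k := Spec.map (ofHom (Ideal.Quotient.mk K)) ≫ incl B σ A
  have hk : k.toImage ≫ (famOf σ K).subschemeι ≫ PicF.XTproj (fB σ) (TA σ A) =
      Spec.map (ofHom (algebraMap A ((A ⊗[R] B) ⧸ K))) := by
    show k.toImage ≫ k.imageι ≫ pullback.snd _ _ = _
    rw [Scheme.Hom.toImage_imageι_assoc, Category.assoc, incl_snd, ← Spec.map_comp]
    rfl
  have key : ∀ {U V W : Scheme.{u}} (e : U ⟶ V) [IsIso e] (p : V ⟶ W),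
      Mor2.IsFinLocFreeOfDeg d p → Mor2.IsFinLocFreeOfDeg d (e ≫ p) := by
    rintro U V W e _ p ⟨⟨h1, h2, h3⟩, hr⟩
    haveI := h1; haveI := h2; haveI := h3
    exact ⟨⟨inferInstance, inferInstance, inferInstance⟩, fun y => by
      rw [Scheme.Hom.finrank_comp_left_of_isIso, hr]⟩
  have : Mor2.IsFinLocFreeOfDeg d ((famOf σ K).subschemeι ≫ PicF.XTproj (fB σ) (TA σ A)) ↔
      Mor2.IsFinLocFreeOfDeg d (Spec.map (ofHom (algebraMap A ((A ⊗[R] B) ⧸ K)))) := by
    constructor
    · intro h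
      exact hk ▸ key k.toImage _ h
    · intro h
      rw [← hk] at h
      have := key (inv k.toImage) _ h
      rwa [IsIso.inv_hom_id_assoc] at this
  rw [this]
  constructor
  · rintro ⟨⟨h1, h2, h3⟩, hr⟩
    haveI f1 : Module.Finite A ((A ⊗[R] B) ⧸ K) :=
      RingHom.finite_algebraMap.mp ((IsFinite.SpecMap_iff _).mp h1)
    haveI f2 : Module.Flat A ((A ⊗[R] B) ⧸ K) :=
      RingHom.flat_algebraMap_iff.mp (Flat.SpecMap_iff.mp h2)
    exact ⟨f1, f2, RingHom.finitePresentation_algebraMap.mp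
      ((HasRingHomProperty.Spec_iff (P := @LocallyOfFinitePresentation)).mp h3), fun p => by
        rw [← Scheme.Hom.finrank_SpecMap_algebraMap, hr]⟩
  · rintro ⟨f1, f2, f3, hr⟩
    exact ⟨⟨(IsFinite.SpecMap_iff _).mpr (RingHom.finite_algebraMap.mpr f1),
      Flat.SpecMap_iff.mpr (RingHom.flat_algebraMap_iff.mpr f2),
      (HasRingHomProperty.Spec_iff (P := @LocallyOfFinitePresentation)).mpr
        (RingHom.finitePresentation_algebraMap.mpr f3)⟩,
      fun y => by rw [Scheme.Hom.finrank_SpecMap_algebraMap]; exact hr y⟩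

/-- Quotients with coordinates give members of the Hilbert functor. -/
lemma isFinLocFreeOfDeg_famOf {d : ℕ} {K : Ideal (A ⊗[R] B)} {φ : B →ₗ[R] (Fin d → A)}
    (h : IsCoord K φ) :
    Mor2.IsFinLocFreeOfDeg d ((famOf σ K).subschemeι ≫ PicF.XTproj (fB σ) (TA σ A)) := by
  rw [famOf_proj_iff]
  let g : ((A ⊗[R] B) ⧸ K) →ₗ[A] (Fin d → A) :=
    (Submodule.liftQ (K.restrictScalars A) (tilde φ) fun z hz => (h.mem_iff z).mp hz) ∘ₗ
      (Submodule.Quotient.restrictScalarsEquiv A K).symm.toLinearMap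
  have hg : ∀ z, g (Ideal.Quotient.mk K z) = tilde φ z := fun z => rfl
  have hbij : Function.Bijective g := by
    refine ⟨(injective_iff_map_eq_zero g).mpr fun q hq => ?_, fun c => ?_⟩
    · obtain ⟨z, rfl⟩ := Ideal.Quotient.mk_surjective q
      rw [hg] at hq
      exact Ideal.Quotient.eq_zero_iff_mem.mpr ((h.mem_iff z).mpr hq)
    · obtain ⟨z, hz⟩ := h.surj c
      exact ⟨_, (hg z).trans hz⟩
  let e := LinearEquiv.ofBijective g hbij
  haveI : Module.Finite A ((A ⊗[R] B) ⧸ K) := Module.Finite.equiv e.symm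
  haveI : Module.Free A ((A ⊗[R] B) ⧸ K) := Module.Free.of_equiv e.symm
  refine ⟨inferInstance, inferInstance, ?_, fun p => ?_⟩
  · haveI : Module.FinitePresentation A ((A ⊗[R] B) ⧸ K) :=
      Module.finitePresentation_of_projective _ _
    exact Algebra.FinitePresentation.of_finitePresentation (R := A) (S := (A ⊗[R] B) ⧸ K)
  · rw [Module.rankAtStalk_eq_of_equiv e]
    haveI := p.nontrivial
    simp [Module.rankAtStalk_eq_finrank_of_free]

end Groth.Agent.H27HilbAff
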