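/-
Charts of the Hilbert scheme of points of an affine scheme.
-/
import Groth.Agent.H27HilbAff.Affine
import Groth.Agent.H27HilbOps.Functor

set_option autoImplicit false
set_option maxHeartbeats 400000
set_option backward.isDefEq.respectTransparency false
set_option backward.isDefEq.respectTransparency.types false

universe u

open CategoryTheory CategoryTheory.Limits AlgebraicGeometry TensorProduct Opposite CommRingCat

namespace Groth.Agent.H27HilbAff

open H27HilbOps (pullObj hilbF)

variable {R B : Type u} [CommRing R] [CommRing B] [Algebra R B] {S : Scheme.{u}}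
  (σ : Spec (CommRingCat.of R) ⟶ S) [IsIso σ] {d : ℕ}

lemma map_bc_id {A : Type u} [CommRing A] [Algebra R A] (K : Ideal (A ⊗[R] B)) :
    K.map (bc (AlgHom.id R A)) = K := by
  have : bc (B := B) (AlgHom.id R A) = RingHom.id _ := by
    refine RingHom.ext fun z => ?_
    induction z using TensorProduct.induction_on with
    | zero => simp
    | tmul a x => simp
    | add a b ha hb => simp only [map_add, ha, hb]
  rw [this, Ideal.map_id]

lemma map_bc_comp {A A' A'' : Type u} [CommRing A] [Algebra R A] [CommRing A'] [Algebra R A']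
    [CommRing A''] [Algebra R A''] (K : Ideal (A ⊗[R] B)) (ψ : A →ₐ[R] A') (χ : A' →ₐ[R] A'') :
    (K.map (bc ψ)).map (bc χ) = K.map (bc (χ.comp ψ)) := by
  rw [Ideal.map_map, bc_comp]

/-- Extend an algebra map to a localization. -/
lemma exists_away_lift {A k : Type u} [CommRing A] [Algebra R A] [CommRing k] [Algebra R k]
    (ψ : A →ₐ[R] k) (r : A) (h : IsUnit (ψ r)) :
    ∃ χ : Localization.Away r →ₐ[R] k,
      χ.comp (IsScalarTower.toAlgHom R A (Localization.Away r)) = ψ := by
  let g : Localization.Away r →+* k := IsLocalization.Away.lift r (g := ψ.toRingHom) h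
  have hg : ∀ a, g (algebraMap A (Localization.Away r) a) = ψ a :=
    IsLocalization.Away.lift_eq r (g := ψ.toRingHom) h
  exact ⟨{ g with
    commutes' := fun c => by
      show g (algebraMap R _ c) = _
      rw [IsScalarTower.algebraMap_apply R A (Localization.Away r), hg, ψ.commutes] }, AlgHom.ext hg⟩

lemma exists_affine_nbhd {T : Over S} (x : T.left) :
    ∃ (A : Type u) (_ : CommRing A) (_ : Algebra R A) (a : TA σ A ⟶ T),
      IsOpenImmersion a.left ∧ x ∈ Set.range a.left := by
  obtain ⟨V, hV, hxV, -⟩ :=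
    exists_isAffineOpen_mem_and_subset (x := x) (U := (⊤ : T.left.Opens)) trivial
  obtain ⟨alg, a, ha⟩ := exists_algebra_of_hom σ (C := Γ(T.left, V)) hV.fromSpec
  refine ⟨_, inferInstance, alg, a, by rw [ha]; infer_instance, ?_⟩
  rw [ha]
  exact hV.range_fromSpec.superset hxV

lemma exists_field_point {T : Over S} (x : T.left) :
    ∃ (k : Type u) (_ : Field k) (_ : Algebra R k) (a : TA σ k ⟶ T), x ∈ Set.range a.left := by
  obtain ⟨alg, a, ha⟩ :=
    exists_algebra_of_hom σ (C := ↑(T.left.residueField x)) (T.left.fromSpecResidueField x)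
  refine ⟨↑(T.left.residueField x), inferInstance, alg, a, ?_⟩
  rw [ha]
  exact (Scheme.range_fromSpecResidueField x).superset rfl

variable (b : Fin d → B)

/-- The chart of `b`. -/
noncomputable abbrev chart : Over S := TA σ (UnivRing R b)

/-- The universal family on a chart. -/
noncomputable def chartObj : HilbD.Obj (fB (B := B) σ) d (chart σ b) :=
  ⟨famOf (A := UnivRing R b) σ (univIdeal R b),
    isFinLocFreeOfDeg_famOf (A := UnivRing R b) σ (univIdeal_isCoord R b)⟩

lemma exists_classify {A : Type u} [CommRing A] [Algebra R A] {K : Ideal (A ⊗[R] B)}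
    (hK : IsFramed K b) :
    ∃ h : TA σ A ⟶ chart σ b, HilbD.pull (fB σ) h (chartObj σ b).1 = famOf σ K := by
  obtain ⟨ψ, hψ, -⟩ := existsUnique_classify hK
  exact ⟨TAmap σ ψ, by rw [chartObj, pull_famOf, hψ]⟩

/-- Morphisms into a chart are determined by the pulled back family. -/
theorem chart_hom_ext {T : Over S} (h h' : T ⟶ chart σ b)
    (e : HilbD.pull (fB σ) h (chartObj σ b).1 = HilbD.pull (fB σ) h' (chartObj σ b).1) :
    h = h' := by
  choose A iA alg a ha hxa using fun x : T.left => exists_affine_nbhd σ x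
  have key : ∀ x, a x ≫ h = a x ≫ h' := by
    intro x
    letI := iA x; letI := alg x
    obtain ⟨ψ, hψ⟩ := exists_TAmap_eq σ (a x ≫ h)
    obtain ⟨ψ', hψ'⟩ := exists_TAmap_eq σ (a x ≫ h')
    have hK : famOf σ ((univIdeal R b).map (bc ψ)) = famOf σ ((univIdeal R b).map (bc ψ')) := by
      rw [← pull_famOf, ← pull_famOf, hψ, hψ', H27HilbOps.pull_comp, H27HilbOps.pull_comp]
      exact congrArg (HilbD.pull (fB σ) (a x)) e
    have hψψ : ψ = ψ' :=
      (existsUnique_classify ((univIdeal_isFramed R b).map ψ)).unique rfl (famOf_injective σ hK).symm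
    rw [← hψ, ← hψ', hψψ]
  obtain ⟨g, -, hu⟩ := H8Props.WeilRes.isZariskiGluing_yoneda (chart σ b) T T.left _ a ha
    (fun x => ⟨x, hxa x⟩) (fun x => a x ≫ h) fun i j W u v w => by
      show u ≫ a i ≫ h = v ≫ a j ≫ h
      rw [← Category.assoc, w, Category.assoc]
  exact (hu h fun _ => rfl).trans (hu h' fun x => (key x).symm).symm

/-- The locus where a family is framed by `b`. -/
def locus {T : Over S} (Z : HilbD.Obj (fB (B := B) σ) d T) : T.left.Opens where
  carrier := {x | ∃ (A : Type u) (_ : CommRing A) (_ : Algebra R A) (a : TA σ A ⟶ T),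
    IsOpenImmersion a.left ∧ x ∈ Set.range a.left ∧
      ∃ K, famOf σ K = HilbD.pull (fB σ) a Z.1 ∧ IsFramed K b}
  is_open' := by
    refine isOpen_iff_forall_mem_open.mpr fun x hx => ?_
    obtain ⟨A, iA, alg, a, ha, hxa, hK⟩ := hx
    haveI := ha
    exact ⟨Set.range a.left, fun y hy => ⟨A, iA, alg, a, ha, hy, hK⟩,
      a.left.isOpenEmbedding.isOpen_range, hxa⟩

/-- A point where a family is framed lies in the locus. -/
theorem mem_locus_of_field {T : Over S} (Z : HilbD.Obj (fB (B := B) σ) d T) {k : Type u}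
    [Field k] [Algebra R k] (a : TA σ k ⟶ T) {K : Ideal (k ⊗[R] B)}
    (hK : famOf σ K = HilbD.pull (fB σ) a Z.1) (hf : IsFramed K b) {x : T.left}
    (hx : x ∈ Set.range a.left) : x ∈ locus σ b Z := by
  obtain ⟨y₀, hy₀⟩ := hx
  obtain ⟨A, iA, algA, a₀, ha₀, hxa₀⟩ := exists_affine_nbhd σ x
  haveI := ha₀
  have hr : Set.range a.left ⊆ Set.range a₀.left := by
    rintro _ ⟨y, rfl⟩
    obtain rfl : y = y₀ := @Subsingleton.elim (PrimeSpectrum k) inferInstance y y₀
    rw [hy₀]
    exact hxa₀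
  let l : TA σ k ⟶ TA σ _ := Over.homMk (IsOpenImmersion.lift a₀.left a.left hr) (by
    rw [← Over.w a₀, ← Over.w a, IsOpenImmersion.lift_fac_assoc])
  have hl : l ≫ a₀ = a := Over.OverMorphism.ext (IsOpenImmersion.lift_fac _ _ hr)
  obtain ⟨ψ, hψ⟩ := exists_TAmap_eq σ l
  obtain ⟨K₀, hK₀⟩ := exists_famOf σ (HilbD.pull (fB σ) a₀ Z.1)
  have hK' : K₀.map (bc ψ) = K := famOf_injective σ (by
    rw [← pull_famOf, hK, hψ, hK₀, ← H27HilbOps.pull_comp, hl])
  obtain ⟨f1, f2, f3, f4⟩ := (famOf_proj_iff σ d K₀).mp (by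
    rw [hK₀]; exact (pullObj (fB σ) a₀ Z).2)
  haveI := f1; haveI := f2; haveI := f3
  haveI := Module.FinitePresentation.of_finite_of_finitePresentation
    A ((A ⊗[R] B) ⧸ K₀)
  obtain ⟨r, hrp, φ₁, hφ₁⟩ := exists_coord_away K₀
    ⟨RingHom.ker ψ.toRingHom, RingHom.ker_isPrime _⟩ (f4 _)
  have hψr : IsUnit (ψ r) := isUnit_iff_ne_zero.mpr fun h0 => hrp h0
  obtain ⟨χ, hχ⟩ := exists_away_lift ψ r hψr
  have hdet : IsUnit (χ (frameMat φ₁ b).det) := by
    rw [← frameMat_pushCoord, ← (hφ₁.map χ).isFramed_iff, map_bc_comp, hχ, hK']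
    exact hf
  obtain ⟨χ₂, hχ₂⟩ := exists_away_lift χ _ hdet
  let ι₁ := IsScalarTower.toAlgHom R A (Localization.Away r)
  let ι₂ := IsScalarTower.toAlgHom R (Localization.Away r)
    (Localization.Away (frameMat φ₁ b).det)
  let a₂ := TAmap σ ι₂ ≫ TAmap σ ι₁ ≫ a₀
  haveI : IsOpenImmersion (TAmap σ ι₁).left :=
    IsOpenImmersion.of_isLocalization (S := Localization.Away r) r
  haveI : IsOpenImmersion (TAmap σ ι₂).left :=
    IsOpenImmersion.of_isLocalization (S := Localization.Away (frameMat φ₁ b).det) (frameMat φ₁ b).det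
  refine ⟨_, _, _, a₂, inferInstanceAs (IsOpenImmersion ((TAmap σ ι₂).left ≫ (TAmap σ ι₁).left ≫ a₀.left)),
    ?_, (K₀.map (bc ι₁)).map (bc ι₂), ?_, ?_⟩
  · refine ⟨(Spec.map (ofHom χ₂.toRingHom)) y₀, ?_⟩
    have hcomp : (χ₂.comp ι₂).comp ι₁ = ψ := by rw [hχ₂, hχ]
    have hfac : Spec.map (ofHom χ₂.toRingHom) ≫ a₂.left = a.left := by
      rw [← hl, ← hψ, ← hcomp]
      simp only [a₂, Over.comp_left, TAmap_left, ← Spec.map_comp_assoc]
      rfl
    exact congr($hfac y₀).trans hy₀
  · rw [← pull_famOf, ← pull_famOf, hK₀, ← H27HilbOps.pull_comp, ← H27HilbOps.pull_comp,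
      Category.assoc]
  · refine (hφ₁.map ι₂).isFramed_iff.mpr ?_
    rw [frameMat_pushCoord]
    exact IsLocalization.Away.algebraMap_isUnit _

/-- Every point lies in some locus. -/
theorem exists_mem_locus {T : Over S} (Z : HilbD.Obj (fB (B := B) σ) d T) (x : T.left) :
    ∃ b : Fin d → B, x ∈ locus σ b Z := by
  obtain ⟨k, ik, alg, a, hxa⟩ := exists_field_point σ x
  obtain ⟨K, hK⟩ := exists_famOf σ (HilbD.pull (fB σ) a Z.1)
  obtain ⟨f1, f2, f3, f4⟩ := (famOf_proj_iff σ d K).mp (by rw [hK]; exact (pullObj (fB σ) a Z).2)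
  haveI := f1; haveI := f2; haveI := f3
  haveI := Module.FinitePresentation.of_finite_of_finitePresentation
    k ((k ⊗[R] B) ⧸ K)
  obtain ⟨r, hrp, φ₁, hφ₁⟩ := exists_coord_away K ⊥ (f4 _)
  have hr0 : r ≠ 0 := fun h => hrp (by rw [h]; exact Submodule.zero_mem _)
  obtain ⟨χ, hχ⟩ := exists_away_lift (AlgHom.id R _) r (isUnit_iff_ne_zero.mpr hr0)
  have hK1 := hφ₁.map χ
  rw [map_bc_comp, hχ, map_bc_id] at hK1
  obtain ⟨b, hb⟩ := exists_frame hK1
  exact ⟨b, mem_locus_of_field σ b Z a hK hb hxa⟩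

/-- A morphism factors through a chart exactly when it lands in its locus. -/
theorem factors_iff {T T' : Over S} (Z : HilbD.Obj (fB (B := B) σ) d T) (p : T' ⟶ T) :
    (∃ h : T' ⟶ chart σ b, pullObj (fB σ) h (chartObj σ b) = pullObj (fB σ) p Z) ↔
      Set.range p.left ⊆ (locus σ b Z : Set T.left) := by
  constructor
  · rintro ⟨h, hh⟩ _ ⟨y, rfl⟩
    obtain ⟨k, ik, alg, a, hya⟩ := exists_field_point σ y
    obtain ⟨ψ, hψ⟩ := exists_TAmap_eq σ (a ≫ h)
    refine mem_locus_of_field σ b Z (a ≫ p) ?_ ((univIdeal_isFramed R b).map ψ) ?_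
    · rw [← pull_famOf, hψ, H27HilbOps.pull_comp, H27HilbOps.pull_comp]
      exact congrArg (HilbD.pull (fB σ) a) (congrArg Subtype.val hh)
    · obtain ⟨z, hz⟩ := hya
      exact ⟨z, by rw [Over.comp_left, Scheme.Hom.comp_apply, hz]⟩
  · intro hr
    have key : ∀ y : T'.left, ∃ (C : Over S) (q : C ⟶ T') (h : C ⟶ chart σ b),
        IsOpenImmersion q.left ∧ y ∈ Set.range q.left ∧
          pullObj (fB σ) h (chartObj σ b) = pullObj (fB σ) (q ≫ p) Z := by
      intro y
      obtain ⟨A, iA, alg, a, ha, hya, K, hK, hf⟩ := hr ⟨y, rfl⟩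
      haveI := ha
      obtain ⟨V, hV, hyV, hVp⟩ := exists_isAffineOpen_mem_and_subset
        (x := y) (U := p.left ⁻¹ᵁ a.left.opensRange) hya
      obtain ⟨alg', a', ha'⟩ := exists_algebra_of_hom σ (C := Γ(T'.left, V)) hV.fromSpec
      have hr' : Set.range (a' ≫ p).left ⊆ Set.range a.left := by
        rintro _ ⟨z, rfl⟩
        rw [Over.comp_left, Scheme.Hom.comp_apply]
        have : a'.left z ∈ V := by
          have h1 : a'.left z ∈ Set.range hV.fromSpec := ⟨z, by rw [ha']; rfl⟩
          rwa [hV.range_fromSpec] at h1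
        exact hVp this
      let l : TA σ Γ(T'.left, V) ⟶ TA σ A := Over.homMk (IsOpenImmersion.lift a.left (a' ≫ p).left hr') (by
        rw [← Over.w a, ← Over.w (a' ≫ p), IsOpenImmersion.lift_fac_assoc])
      have hl : l ≫ a = a' ≫ p := Over.OverMorphism.ext (IsOpenImmersion.lift_fac _ _ hr')
      obtain ⟨ψ, hψ⟩ := exists_TAmap_eq σ l
      obtain ⟨h, hh⟩ := exists_classify σ b (hf.map ψ)
      refine ⟨_, a', h, by rw [ha']; infer_instance, by rw [ha']; exact hV.range_fromSpec.superset hyV,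
        Subtype.ext ?_⟩
      show HilbD.pull (fB σ) h (chartObj σ b).1 = HilbD.pull (fB σ) (a' ≫ p) Z.1
      rw [hh, ← pull_famOf, hK, ← H27HilbOps.pull_comp, hψ, hl]
    choose C q h hq hy hh using key
    have hcov : ∀ y, ∃ k, y ∈ Set.range (q k).left := fun y => ⟨y, hy y⟩
    have hglue := H8Props.WeilRes.isZariskiGluing_yoneda (chart σ b) T' T'.left C q hq hcov h
      fun i j W a c e => chart_hom_ext σ b _ _ (by
        have hi := congrArg Subtype.val (hh i)
        have hj := congrArg Subtype.val (hh j)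
        show HilbD.pull (fB σ) (a ≫ h i) _ = HilbD.pull (fB σ) (c ≫ h j) _
        rw [H27HilbOps.pull_comp, H27HilbOps.pull_comp]
        refine (congrArg (HilbD.pull (fB σ) a) hi).trans
          (Eq.trans ?_ (congrArg (HilbD.pull (fB σ) c) hj).symm)
        show HilbD.pull (fB σ) a (HilbD.pull (fB σ) (q i ≫ p) Z.1) =
          HilbD.pull (fB σ) c (HilbD.pull (fB σ) (q j ≫ p) Z.1)
        rw [← H27HilbOps.pull_comp, ← H27HilbOps.pull_comp, ← Category.assoc, e, Category.assoc])
    obtain ⟨g, hg, -⟩ := hglue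
    refine ⟨g, ?_⟩
    have hsep := H27HilbOps.isZariskiGluing_hilbF (fB (B := B) σ) d T' T'.left C q hq hcov
      (fun k => pullObj (fB σ) (q k ≫ p) Z) (fun i j W a c e => Subtype.ext (by
        show HilbD.pull (fB σ) a (HilbD.pull (fB σ) (q i ≫ p) Z.1) =
          HilbD.pull (fB σ) c (HilbD.pull (fB σ) (q j ≫ p) Z.1)
        rw [← H27HilbOps.pull_comp, ← H27HilbOps.pull_comp, ← Category.assoc, e, Category.assoc]))
    refine hsep.unique (fun k => Subtype.ext ?_) (fun k => Subtype.ext ?_)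
    · show HilbD.pull (fB σ) (q k) (HilbD.pull (fB σ) g (chartObj σ b).1) = _
      rw [← H27HilbOps.pull_comp, show q k ≫ g = h k from hg k]
      exact congrArg Subtype.val (hh k)
    · exact (H27HilbOps.pull_comp (fB σ) (q k) p Z.1).symm

/-- The Hilbert functor of points of an affine scheme over an affine base is representable. -/
theorem representable : HilbD.Representable (fB (B := B) σ) d :=
  H27HilbOps.representable_of_isRepresentable _ _
    (H8Props.WeilRes.isRepresentable_of_open_cover (F := hilbF (fB (B := B) σ) d)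
      (H27HilbOps.isZariskiGluing_hilbF _ _) (ι := Fin d → B) (fun b => chart σ b)
      (fun b => chartObj σ b) (fun b T h h' e =>
        chart_hom_ext σ b h h' (congrArg (Subtype.val : HilbD.Obj _ _ _ → _) e))
      fun _ Z => ⟨fun b => locus σ b Z, fun x => exists_mem_locus σ Z x,
        fun b _ p => factors_iff σ b Z p⟩)

end Groth.Agent.H27HilbAff
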